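import Groth.Agent.EtaMod.Noeth
import Groth.Agent.FlatMisc.ApproxGeomRed
import Groth.Agent.SrcDescent.FlatModelAlg
import Groth.Agent.RelPure.Norm

/-!
Relative integral closedness of flat finitely presented algebras with geometrically reduced fibres
over normal domains.
-/

set_option autoImplicit false
set_option synthInstance.maxHeartbeats 200000
set_option maxHeartbeats 1000000
set_option backward.isDefEq.respectTransparency false
set_option backward.isDefEq.respectTransparency.types false

universe u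

open TensorProduct CategoryTheory CategoryTheory.Limits AlgebraicGeometry

namespace Groth.Agent.EtaMod

theorem exists_finset_tensor {R : Type u} [CommRing R] {R₁ : Subalgebra ℤ R} (A₁ : Type u) [CommRing A₁]
    [Algebra R₁ A₁] (z : R ⊗[R₁] A₁) :
    ∃ F : Finset R, ∀ (R₂ : Subalgebra R₁ R), (F : Set R) ⊆ R₂ →
      z ∈ Set.range (R₂.val.toLinearMap.rTensor A₁) := by
  classical
  induction z using TensorProduct.induction_on with
  | zero => exact ⟨∅, fun R₂ _ => ⟨0, map_zero _⟩⟩
  | tmul r a => exact ⟨{r}, fun R₂ h => ⟨(⟨r, h (Finset.mem_singleton_self r)⟩ : R₂) ⊗ₜ a, rfl⟩⟩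
  | add x y hx hy =>
    obtain ⟨F, hF⟩ := hx
    obtain ⟨G, hG⟩ := hy
    refine ⟨F ∪ G, fun R₂ h => ?_⟩
    obtain ⟨u, hu⟩ := hF R₂ (fun r hr => h (Finset.mem_union_left _ hr))
    obtain ⟨v, hv⟩ := hG R₂ (fun r hr => h (Finset.mem_union_right _ hr))
    exact ⟨u + v, by rw [map_add, hu, hv]⟩

open PrimeSpectrum in
/-- A constructible set containing the image of `Spec R` contains the image of `Spec` of a large
finitely generated subring. -/
theorem exists_finset_constructible {R R₁ : Type u} [CommRing R] [CommRing R₁] [Algebra R₁ R]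
    {L : Set (PrimeSpectrum R₁)} (hL : Topology.IsConstructible L)
    (h : ∀ P : PrimeSpectrum R, comap (algebraMap R₁ R) P ∈ L) :
    ∃ F : Finset R, ∀ (T : Type u) [CommRing T] [Algebra R₁ T] (φ : T →ₐ[R₁] R), Function.Injective φ →
      (F : Set R) ⊆ Set.range φ → ∀ P : PrimeSpectrum T, comap (algebraMap R₁ T) P ∈ L := by
  classical
  obtain ⟨S, hS⟩ := exists_constructibleSetData_iff.2 hL.compl
  have hbad : ∀ C ∈ S, ∃ (N : ℕ) (r : Fin C.n → R),
      algebraMap R₁ R C.f ^ N = ∑ i, r i * algebraMap R₁ R (C.g i) := by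
    intro C hC
    have hmem : algebraMap R₁ R C.f ∈ (Ideal.span (Set.range fun i => algebraMap R₁ R (C.g i))).radical := by
      rw [Ideal.radical_eq_sInf, Submodule.mem_sInf]
      rintro Q ⟨hQ, hQp⟩
      by_contra hf
      have h1 : comap (algebraMap R₁ R) ⟨Q, hQp⟩ ∈ Lᶜ := by
        rw [← hS]
        refine Set.mem_biUnion hC ⟨?_, fun h => hf (h rfl)⟩
        rintro _ ⟨i, rfl⟩
        exact hQ (Ideal.subset_span ⟨i, rfl⟩)
      exact h1 (h _)
    obtain ⟨N, hN⟩ := hmem
    obtain ⟨r, hr⟩ := Ideal.mem_span_range_iff_exists_fun.1 hN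
    exact ⟨N, r, hr.symm⟩
  choose! N r hr using hbad
  refine ⟨S.biUnion fun C => Finset.univ.image (r C), fun T _ _ φ hφ hF P => ?_⟩
  by_contra hP
  rw [← Set.mem_compl_iff, ← hS] at hP
  obtain ⟨C, hC, hPg, hPf⟩ := Set.mem_iUnion₂.1 hP
  have hri : ∀ i, ∃ t : T, φ t = r C i := fun i =>
    hF (Finset.mem_biUnion.2 ⟨C, hC, Finset.mem_image_of_mem _ (Finset.mem_univ i)⟩)
  choose t ht using hri
  have he : algebraMap R₁ T C.f ^ N C = ∑ i, t i * algebraMap R₁ T (C.g i) := hφ (by
    rw [map_pow, AlgHom.commutes, hr C hC, map_sum]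
    exact Finset.sum_congr rfl fun i _ => by rw [map_mul, ht, AlgHom.commutes])
  refine hPf fun x hx => ?_
  obtain rfl : x = C.f := hx
  refine P.isPrime.mem_of_pow_mem (N C) ?_
  rw [he]
  exact Ideal.sum_mem _ fun i _ => Ideal.mul_mem_left _ _ (hPg ⟨i, rfl⟩)

theorem exists_lift_to_normal {R : Type u} [CommRing R] [IsDomain R] [IsIntegrallyClosed R]
    (R₁ : Subalgebra ℤ R) (hR₁ : R₁.FG) (F : Finset R) :
    ∃ (T : Type u) (_ : CommRing T) (_ : IsDomain T) (_ : Algebra R₁ T) (φ : T →ₐ[R₁] R),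
      IsNoetherianRing T ∧ IsIntegrallyClosed T ∧ Function.Injective φ ∧ (F : Set R) ⊆ Set.range φ := by
  classical
  let R₂ : Subalgebra R₁ R := Algebra.adjoin R₁ (F : Set R)
  haveI : Algebra.FiniteType ℤ R₁ := (Subalgebra.fg_iff_finiteType R₁).1 hR₁
  haveI : Algebra.FiniteType R₁ R₂ := (Subalgebra.fg_iff_finiteType R₂).1 (Subalgebra.fg_adjoin_finset F)
  haveI : Algebra.FiniteType ℤ R₂ := Algebra.FiniteType.trans (R := ℤ) (S := R₁) (A := R₂) inferInstance inferInstance
  haveI : IsNoetherianRing R₂ := Algebra.FiniteType.isNoetherianRing ℤ R₂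
  have hN := RelPure.isNagata_of_finiteType_int R₂
  let E := FractionRing R₂
  let T := integralClosure R₂ E
  haveI : Module.Finite R₂ T := N12Aux.finite_normalization_of_finite hN R₂
  haveI : IsNoetherianRing T := IsNoetherianRing.of_finite R₂ T
  haveI : IsIntegrallyClosed T := integralClosure.isIntegrallyClosedOfFiniteExtension (K := E) (L := E)
  let K := FractionRing R
  let ι₀ : R₂ →+* K := (algebraMap R K).comp R₂.val.toRingHom
  have hι₀ : Function.Injective ι₀ := (IsFractionRing.injective R K).comp Subtype.val_injective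
  let ι : E →+* K := IsFractionRing.lift hι₀
  have hι : ∀ x : R₂, ι (algebraMap R₂ E x) = algebraMap R K x := fun x => IsFractionRing.lift_algebraMap hι₀ x
  have himg : ∀ z : T, ι z ∈ (algebraMap R K).range := fun z => by
    have hz : IsIntegral R (ι z) := by
      obtain ⟨P, hP, hP0⟩ := z.2
      refine ⟨P.map R₂.val.toRingHom, hP.map _, ?_⟩
      rw [Polynomial.eval₂_map]
      have h1 := congrArg ι hP0
      rw [Polynomial.hom_eval₂, map_zero] at h1
      rw [← h1]
      congr 1
      exact RingHom.ext fun x => (hι x).symm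
    obtain ⟨y, hy⟩ := IsIntegrallyClosed.algebraMap_eq_of_integral hz
    exact ⟨y, hy⟩
  choose ψ hψ using himg
  have hinj := IsFractionRing.injective R K
  let φ₀ : T →+* R :=
    { toFun := ψ
      map_one' := hinj (by rw [hψ, map_one]; exact map_one ι)
      map_mul' := fun x y => hinj (by rw [hψ, map_mul, hψ, hψ]; exact map_mul ι _ _)
      map_zero' := hinj (by rw [hψ, map_zero]; exact map_zero ι)
      map_add' := fun x y => hinj (by rw [hψ, map_add, hψ, hψ]; exact map_add ι _ _) }
  have hval : ∀ x : R₂, φ₀ (algebraMap R₂ T x) = (x : R) := fun x => hinj ((hψ _).trans (hι x))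
  letI : Algebra R₁ T := ((algebraMap R₂ T).comp (algebraMap R₁ R₂)).toAlgebra
  refine ⟨T, inferInstance, inferInstance, inferInstance,
    { φ₀ with commutes' := fun x => hval (algebraMap R₁ R₂ x) }, inferInstance, inferInstance, ?_, ?_⟩
  · intro x y hxy
    have h := congrArg (algebraMap R K) (show ψ x = ψ y from hxy)
    rw [hψ, hψ] at h
    exact Subtype.ext (ι.injective h)
  · intro r hr
    exact ⟨algebraMap R₂ T ⟨r, Algebra.subset_adjoin hr⟩, hval _⟩

theorem isReduced_fibre_ring {T A₃ : Type u} [CommRing T] [CommRing A₃] [Algebra T A₃]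
    [GeometricallyReduced (Spec.map (CommRingCat.ofHom (algebraMap T A₃)))] (p : Ideal T) [p.IsPrime] :
    _root_.IsReduced (p.ResidueField ⊗[T] A₃) := by
  let g := Spec.map (CommRingCat.ofHom (algebraMap T p.ResidueField))
  let f := Spec.map (CommRingCat.ofHom (algebraMap T A₃))
  haveI : AlgebraicGeometry.IsReduced (pullback f g) :=
    GeometricallyReduced.geometrically_isReduced (f := f) g _ _ (IsPullback.of_hasPullback f g)
  haveI : AlgebraicGeometry.IsReduced (Spec (CommRingCat.of (A₃ ⊗[T] p.ResidueField))) :=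
    isReduced_of_isOpenImmersion (pullbackSpecIso T A₃ p.ResidueField).inv
  haveI : _root_.IsReduced (A₃ ⊗[T] p.ResidueField) := (affine_isReduced_iff _).1 ‹_›
  exact isReduced_of_injective (Algebra.TensorProduct.comm T p.ResidueField A₃).toRingHom
    (Algebra.TensorProduct.comm T p.ResidueField A₃).injective

/-- Over a normal domain: if `a / s` is integral over `A`, then `s` divides `a`. -/
theorem dvd_of_rel_of_normal {R A : Type u} [CommRing R] [IsDomain R] [IsIntegrallyClosed R] [CommRing A]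
    [Algebra R A] [Algebra.FinitePresentation R A] [Module.Flat R A]
    [GeometricallyReduced (Spec.map (CommRingCat.ofHom (algebraMap R A)))]
    {s : R} (hs : s ≠ 0) {a : A} {n : ℕ} {c : ℕ → A} (h : Rel s a n c) : algebraMap R A s ∣ a := by
  classical
  obtain ⟨R₁, A₁, _, _, hR₁, hflat, hfp, ⟨e⟩⟩ := SrcDescent.exists_flat_model R A
  haveI := hflat; haveI := hfp
  haveI : Algebra.FiniteType ℤ R₁ := (Subalgebra.fg_iff_finiteType R₁).1 hR₁
  haveI : IsNoetherianRing R₁ := Algebra.FiniteType.isNoetherianRing ℤ R₁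
  let f₁ := Spec.map (CommRingCat.ofHom (algebraMap R₁ A₁))
  haveI : LocallyOfFiniteType f₁ :=
    (HasRingHomProperty.Spec_iff (P := @LocallyOfFiniteType)).2
      (RingHom.finiteType_algebraMap.2 (inferInstance : Algebra.FiniteType R₁ A₁))
  let L : Set (PrimeSpectrum R₁) := FlatMisc.GeomRedConstr.locus f₁
  have hL : Topology.IsConstructible L := FlatMisc.GeomRedConstr.isConstructible_locus f₁
  have hsq : ∀ (T : Type u) [CommRing T] [Algebra R₁ T],
      FlatMisc.GeomRedConstr.locus (Spec.map (CommRingCat.ofHom (algebraMap T (T ⊗[R₁] A₁)))) =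
        (Spec.map (CommRingCat.ofHom (algebraMap R₁ T))).base ⁻¹' FlatMisc.GeomRedConstr.locus f₁ :=
    fun T _ _ => FlatMisc.GeomRedConstr.locus_preimage
      (isPullback_SpecMap_of_isPushout _ _ _ _ (CommRingCat.isPushout_tensorProduct R₁ T A₁)).flip
  have hA : GeometricallyReduced (Spec.map (CommRingCat.ofHom (algebraMap R (R ⊗[R₁] A₁)))) := by
    have he : Spec.map (CommRingCat.ofHom (algebraMap R (R ⊗[R₁] A₁))) =
        Spec.map e.toRingEquiv.toCommRingCatIso.hom ≫ Spec.map (CommRingCat.ofHom (algebraMap R A)) := by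
      rw [← Spec.map_comp]
      congr 1
      exact CommRingCat.hom_ext (RingHom.ext fun x => (e.commutes x).symm)
    rw [he]
    exact (MorphismProperty.cancel_left_of_respectsIso @GeometricallyReduced _ _).2 inferInstance
  haveI := hA
  have hin : ∀ P : PrimeSpectrum R, PrimeSpectrum.comap (algebraMap R₁ R) P ∈ L := fun P => by
    have h1 : (P : Spec (CommRingCat.of R)) ∈
        FlatMisc.GeomRedConstr.locus (Spec.map (CommRingCat.ofHom (algebraMap R (R ⊗[R₁] A₁)))) :=
      (inferInstance : GeometricallyReduced ((Spec.map (CommRingCat.ofHom (algebraMap R (R ⊗[R₁] A₁)))).fiberToSpecResidueField _))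
    rw [hsq R] at h1
    exact h1
  obtain ⟨F₀, hF₀⟩ := exists_finset_constructible hL hin
  choose G hG using fun z : A => exists_finset_tensor A₁ (e z)
  obtain ⟨T, _, _, _, φ, hTN, hTI, hφ, hF⟩ :=
    exists_lift_to_normal R₁ hR₁ (insert s (F₀ ∪ G a ∪ (Finset.range n).biUnion fun i => G (c i)))
  haveI := hTN; haveI := hTI
  have hFmem : ∀ {r}, r ∈ insert s (F₀ ∪ G a ∪ (Finset.range n).biUnion fun i => G (c i)) → r ∈ Set.range φ :=
    fun hr => hF hr
  obtain ⟨s₃, hs₃⟩ := hFmem (Finset.mem_insert_self _ _)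
  let j : T ⊗[R₁] A₁ →ₐ[R₁] R ⊗[R₁] A₁ := Algebra.TensorProduct.map φ (AlgHom.id R₁ A₁)
  have hj : Function.Injective j :=
    Module.Flat.rTensor_preserves_injective_linearMap (M := A₁) φ.toLinearMap hφ
  have hrange : ∀ z : A, (G z : Set R) ⊆ Set.range φ → e z ∈ Set.range j := by
    intro z hz
    obtain ⟨w, hw⟩ := hG z φ.range (fun r hr => hz hr)
    obtain ⟨w', rfl⟩ := Algebra.TensorProduct.map_surjective φ.rangeRestrict (AlgHom.id R₁ A₁)
      φ.rangeRestrict_surjective Function.surjective_id w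
    refine ⟨w', ?_⟩
    rw [← hw]
    clear hw
    induction w' using TensorProduct.induction_on with
    | zero => simp
    | add x y hx hy => simp only [map_add, hx, hy]
    | tmul t x => rfl
  obtain ⟨a₃, ha₃⟩ := hrange a fun r hr =>
    hFmem (Finset.mem_insert_of_mem (Finset.mem_union_left _ (Finset.mem_union_right _ hr)))
  have hcr : ∀ i ∈ Finset.range n, e (c i) ∈ Set.range j := fun i hi => hrange _ fun r hr =>
    hFmem (Finset.mem_insert_of_mem (Finset.mem_union_right _ (Finset.mem_biUnion.2 ⟨i, hi, hr⟩)))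
  choose! c₃ hc₃ using hcr
  have hjalg : ∀ t : T, j (algebraMap T (T ⊗[R₁] A₁) t) = algebraMap R (R ⊗[R₁] A₁) (φ t) := fun t => by
    simp [j, Algebra.TensorProduct.algebraMap_apply]
  have hrel : Rel s₃ a₃ n c₃ := by
    refine ⟨h.1, hj ?_⟩
    have h2 := congrArg e h.2
    simp only [map_add, map_sum, map_mul, map_pow, map_zero, AlgEquiv.commutes] at h2 ⊢
    rw [ha₃, hjalg, hs₃]
    refine Eq.trans (congrArg _ (Finset.sum_congr rfl fun i hi => ?_)) h2
    rw [hc₃ i hi]
  have hred : ∀ (p : Ideal T) [p.IsPrime], _root_.IsReduced (p.ResidueField ⊗[T] (T ⊗[R₁] A₁)) := by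
    haveI : GeometricallyReduced (Spec.map (CommRingCat.ofHom (algebraMap T (T ⊗[R₁] A₁)))) := by
      rw [GeometricallyReduced.eq_geometrically, geometrically_iff_forall_fiberToSpecResidueField,
        ← GeometricallyReduced.eq_geometrically]
      intro y
      show y ∈ FlatMisc.GeomRedConstr.locus (Spec.map (CommRingCat.ofHom (algebraMap T (T ⊗[R₁] A₁))))
      rw [hsq T]
      exact hF₀ T φ hφ (fun r hr =>
        hFmem (Finset.mem_insert_of_mem (Finset.mem_union_left _ (Finset.mem_union_left _ hr)))) y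
    exact fun p _ => isReduced_fibre_ring p
  have hs0 : s₃ ≠ 0 := fun h0 => hs (by rw [← hs₃, h0, map_zero])
  obtain ⟨b, hb⟩ := dvd_of_rel hred hs0 hrel
  refine ⟨e.symm (j b), e.injective ?_⟩
  rw [map_mul, AlgEquiv.commutes, AlgEquiv.apply_symm_apply, ← ha₃, hb, map_mul, hjalg, hs₃]

end Groth.Agent.EtaMod
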