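import Groth.Agent.CAlgOdd.NagataFT.Basic
import Mathlib

/-!
Relative integral closedness of flat algebras with reduced fibres over normal Noetherian domains.
-/

set_option autoImplicit false
set_option synthInstance.maxHeartbeats 100000
set_option maxHeartbeats 1000000

universe u

open TensorProduct

namespace Groth.Agent.EtaMod

/-- `a / s` is integral. -/
def Rel {R A : Type u} [CommRing R] [CommRing A] [Algebra R A] (s : R) (a : A) (n : ℕ) (c : ℕ → A) : Prop :=
  0 < n ∧ a ^ n + ∑ i ∈ Finset.range n, c i * algebraMap R A s ^ (n - i) * a ^ i = 0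

theorem Rel.map {R A R' A' : Type u} [CommRing R] [CommRing A] [Algebra R A] [CommRing R'] [CommRing A']
    [Algebra R' A'] {s : R} {a : A} {n : ℕ} {c : ℕ → A} (h : Rel s a n c) (φ : R →+* R') (ψ : A →+* A')
    (hφψ : ∀ r, ψ (algebraMap R A r) = algebraMap R' A' (φ r)) : Rel (φ s) (ψ a) n fun i => ψ (c i) := by
  refine ⟨h.1, ?_⟩
  have := congrArg ψ h.2
  simpa [map_sum, hφψ] using this

/-- The case of a discrete valuation ring. -/
theorem dvd_of_rel_of_dvr {T A : Type u} [CommRing T] [IsDomain T] [IsDiscreteValuationRing T] [CommRing A]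
    [Algebra T A] [Module.Flat T A] {ϖ : T} (hϖ : Irreducible ϖ)
    (hred : ∀ (x : A) (m : ℕ), algebraMap T A ϖ ∣ x ^ m → algebraMap T A ϖ ∣ x)
    {s : T} (hs : s ≠ 0) {a : A} {n : ℕ} {c : ℕ → A} (h : Rel s a n c) : algebraMap T A s ∣ a := by
  obtain ⟨k, v, rfl⟩ := IsDiscreteValuationRing.eq_unit_mul_pow_irreducible hs hϖ
  rw [map_mul, map_pow, (v.isUnit.map (algebraMap T A)).mul_left_dvd]
  clear hs
  set p := algebraMap T A ϖ
  have hreg : IsSMulRegular A p := by
    have := (IsSMulRegular.of_ne_zero hϖ.ne_zero).of_flat (S := A)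
    exact this
  have main : ∀ (k : ℕ) (w : A) (a : A) (c : ℕ → A),
      a ^ n + ∑ i ∈ Finset.range n, c i * (w * p ^ k) ^ (n - i) * a ^ i = 0 → p ^ k ∣ a := by
    intro k
    induction k with
    | zero => exact fun w a c _ => by rw [pow_zero]; exact one_dvd a
    | succ k ih =>
      intro w a c hk
      obtain ⟨a', rfl⟩ : p ∣ a := by
        refine hred a n ?_
        rw [eq_neg_of_add_eq_zero_left hk, dvd_neg]
        refine Finset.dvd_sum fun i hi => ?_
        have : n - i ≠ 0 := (Nat.sub_pos_of_lt (Finset.mem_range.1 hi)).ne'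
        exact Dvd.dvd.mul_right (Dvd.dvd.mul_left (dvd_pow (Dvd.dvd.mul_left (dvd_pow_self p k.succ_ne_zero) w) this) _) _
      rw [pow_succ']
      refine mul_dvd_mul_left p (ih w a' c ?_)
      refine (isSMulRegular_iff_right_eq_zero_of_smul.1 (hreg.pow n)) _ ?_
      rw [smul_eq_mul, ← hk, mul_add, ← mul_pow, Finset.mul_sum]
      congr 1
      refine Finset.sum_congr rfl fun i hi => ?_
      have he : p ^ n = p ^ (n - i) * p ^ i := by
        rw [← pow_add, Nat.sub_add_cancel (Finset.mem_range.1 hi).le]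
      rw [he, pow_succ', mul_pow w (p * p ^ k), mul_pow w (p ^ k), mul_pow p (p ^ k), mul_pow p a']
      ring
  refine main k (algebraMap T A v) a c ?_
  have := h.2
  simpa only [map_mul, map_pow] using this

/-- Reduced special fibre, in terms of divisibility. -/
theorem dvd_of_dvd_pow {R A : Type u} [CommRing R] [CommRing A] [Algebra R A] (p : Ideal R) [p.IsPrime]
    [IsDomain (Localization.AtPrime p)] [IsDiscreteValuationRing (Localization.AtPrime p)]
    [IsReduced (p.ResidueField ⊗[R] A)] {ϖ : Localization.AtPrime p} (hϖ : Irreducible ϖ)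
    (x : Localization.AtPrime p ⊗[R] A) (m : ℕ)
    (hx : algebraMap (Localization.AtPrime p) (Localization.AtPrime p ⊗[R] A) ϖ ∣ x ^ m) :
    algebraMap (Localization.AtPrime p) (Localization.AtPrime p ⊗[R] A) ϖ ∣ x := by
  let T := Localization.AtPrime p
  let g : T →ₐ[R] p.ResidueField := IsScalarTower.toAlgHom R T p.ResidueField
  have hg : Function.Surjective g := IsLocalRing.residue_surjective
  let Φ := Algebra.TensorProduct.map g (AlgHom.id R A)
  have hker : RingHom.ker Φ = Ideal.span {algebraMap T (T ⊗[R] A) ϖ} := by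
    rw [Algebra.TensorProduct.rTensor_ker g hg]
    have : RingHom.ker g = Ideal.span {ϖ} :=
      (IsLocalRing.ker_residue (R := T)).trans hϖ.maximalIdeal_eq
    rw [this, Ideal.map_span, Set.image_singleton]
    rfl
  have h0 : Φ x ^ m = 0 := by
    rw [← map_pow, ← RingHom.mem_ker, hker, Ideal.mem_span_singleton]
    exact hx
  have h1 : x ∈ RingHom.ker Φ := eq_zero_of_pow_eq_zero h0
  rw [hker, Ideal.mem_span_singleton] at h1
  exact h1

/-- The Noetherian statement. -/
theorem dvd_of_rel {R A : Type u} [CommRing R] [IsDomain R] [IsNoetherianRing R] [IsIntegrallyClosed R]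
    [CommRing A] [Algebra R A] [Module.Flat R A]
    (hred : ∀ (p : Ideal R) [p.IsPrime], IsReduced (p.ResidueField ⊗[R] A))
    {s : R} (hs : s ≠ 0) {a : A} {n : ℕ} {c : ℕ → A} (h : Rel s a n c) : algebraMap R A s ∣ a := by
  classical
  let M := R ⧸ Ideal.span {s}
  let P := associatedPrimes R M
  haveI : Finite P := (associatedPrimes.finite R M).to_subtype
  haveI : Fintype P := Fintype.ofFinite P
  haveI hP : ∀ q : P, (q : Ideal R).IsPrime := fun q => q.2.isPrime
  let T : P → Type u := fun q => Localization.AtPrime (q : Ideal R)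
  let J : ∀ q : P, Ideal (T q) := fun q => Ideal.span {algebraMap R (T q) s}
  let f : M →ₗ[R] Π q : P, T q ⧸ J q :=
    LinearMap.pi fun q => Submodule.liftQ (Ideal.span {s})
      (((Ideal.Quotient.mkₐ R (J q)).comp (Algebra.ofId R (T q))).toLinearMap) (by
        rw [Ideal.span, Submodule.span_le, Set.singleton_subset_iff, SetLike.mem_coe, LinearMap.mem_ker]
        exact Ideal.Quotient.eq_zero_iff_mem.2 (Ideal.subset_span rfl))
  have hf : Function.Injective f := by
    refine (injective_iff_map_eq_zero f).2 fun x hx => ?_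
    by_contra hne
    obtain ⟨Q, hQ, hle⟩ := exists_le_isAssociatedPrime_of_isNoetherianRing (R := R) x hne
    obtain ⟨x, rfl⟩ := Ideal.Quotient.mk_surjective x
    let q : P := ⟨Q, hQ⟩
    have hxq : algebraMap R (T q) x ∈ J q := Ideal.Quotient.eq_zero_iff_mem.1 (congrFun hx q)
    rw [show J q = (Ideal.span {s}).map (algebraMap R (T q)) by rw [Ideal.map_span, Set.image_singleton],
      IsLocalization.algebraMap_mem_map_algebraMap_iff (q : Ideal R).primeCompl (T q)] at hxq
    obtain ⟨t, ht, htx⟩ := hxq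
    refine ht (hle ?_)
    rw [Submodule.mem_colon_singleton, Submodule.mem_bot]
    exact Ideal.Quotient.eq_zero_iff_mem.2 htx
  have hmk : ∀ q : P, ∃ y : T q ⊗[R] A, (1 : T q) ⊗ₜ[R] a = algebraMap (T q) (T q ⊗[R] A) (algebraMap R (T q) s) * y := by
    intro q
    haveI : (q : Ideal R).IsPrime := hP q
    haveI : IsDomain (T q) :=
      IsLocalization.isDomain_localization (q : Ideal R).primeCompl_le_nonZeroDivisors
    haveI : IsDiscreteValuationRing (T q) := CAlgOdd.NagataFT.isDVR_of_mem_ass hs (q : Ideal R) q.2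
    obtain ⟨ϖ, hϖ⟩ := IsDiscreteValuationRing.exists_irreducible (T q)
    haveI := hred (q : Ideal R)
    have hrel := h.map (algebraMap R (T q))
      (Algebra.TensorProduct.includeRight : A →ₐ[R] T q ⊗[R] A).toRingHom fun r => by
        show (1 : T q) ⊗ₜ[R] algebraMap R A r = _
        rw [Algebra.TensorProduct.algebraMap_apply, Algebra.algebraMap_eq_smul_one, TensorProduct.tmul_smul,
          Algebra.algebraMap_eq_smul_one, ← TensorProduct.smul_tmul']
        rw [algebraMap_smul]
    exact dvd_of_rel_of_dvr hϖ (fun x m => dvd_of_dvd_pow (q : Ideal R) hϖ x m)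
      ((map_ne_zero_iff _ (IsLocalization.injective (T q) (q : Ideal R).primeCompl_le_nonZeroDivisors)).2 hs) hrel
  have hinj : Function.Injective (f.lTensor A) := Module.Flat.lTensor_preserves_injective_linearMap f hf
  have hz : a ⊗ₜ[R] (Submodule.Quotient.mk 1 : M) = 0 := by
    refine hinj ((TensorProduct.piRight R R A fun q : P => T q ⧸ J q).injective ?_)
    rw [map_zero, map_zero, LinearMap.lTensor_tmul]
    funext q
    obtain ⟨y, hy⟩ := hmk q
    rw [TensorProduct.piRight_apply, TensorProduct.piRightHom_tmul]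
    show a ⊗ₜ[R] Ideal.Quotient.mk (J q) (algebraMap R (T q) 1) = 0
    rw [map_one, map_one]
    let Ψ : T q ⊗[R] A →ₐ[R] A ⊗[R] (T q ⧸ J q) :=
      (Algebra.TensorProduct.comm R (T q ⧸ J q) A).toAlgHom.comp
        (Algebra.TensorProduct.map (Ideal.Quotient.mkₐ R (J q)) (AlgHom.id R A))
    have h1 := congrArg Ψ hy
    rw [map_mul, Algebra.TensorProduct.algebraMap_apply] at h1
    simp only [Ψ, AlgHom.comp_apply, Algebra.TensorProduct.map_tmul, AlgEquiv.coe_toAlgHom,
      AlgHom.id_apply, Algebra.TensorProduct.comm_tmul, map_one, map_mul, Algebra.algebraMap_self,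
      RingHom.id_apply, Ideal.Quotient.mkₐ_eq_mk] at h1
    rw [h1, Ideal.Quotient.eq_zero_iff_mem.2 (show algebraMap R (T q) s ∈ J q from Ideal.mem_span_singleton_self _), TensorProduct.tmul_zero]; exact zero_mul (M₀ := A ⊗[R] (T q ⧸ J q)) _
  have h2 := congrArg (TensorProduct.tensorQuotEquivQuotSMul A (Ideal.span {s})) hz
  rw [map_zero] at h2
  have h3 : (Submodule.Quotient.mk a : A ⧸ (Ideal.span {s} • ⊤ : Submodule R A)) = 0 := by
    rw [← h2]
    refine Eq.trans ?_ (TensorProduct.tensorQuotEquivQuotSMul_tmul_mk _ a (1 : R)).symm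
    rw [one_smul]
  rw [Submodule.Quotient.mk_eq_zero, Submodule.ideal_span_singleton_smul,
    Submodule.mem_smul_pointwise_iff_exists] at h3
  obtain ⟨b, -, hb⟩ := h3
  exact ⟨b, by rw [← hb, Algebra.smul_def]⟩

end Groth.Agent.EtaMod
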