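import Groth.Agent.EtaMod.Descent
import Groth.Agent.NeronHDLib.IntClosureNormal
import Groth.Prelude.Def_Pi1

/-!
No non-trivial finite modifications at the generic fibre.
-/

set_option autoImplicit false
set_option synthInstance.maxHeartbeats 200000
set_option maxHeartbeats 1000000
set_option backward.isDefEq.respectTransparency false
set_option backward.isDefEq.respectTransparency.types false

universe u

open TensorProduct CategoryTheory CategoryTheory.Limits AlgebraicGeometry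

namespace Groth.Agent.EtaMod

variable {S X X' P : Scheme.{u}}

theorem isTheDominant_fst [IsIntegral S] [QuasiSeparatedSpace S] (φ : X ⟶ S) [Flat φ] :
    QuasiCompact (pullback.fst φ (S.fromSpecStalk (genericPoint S))) ∧
      IsSchemeTheoreticallyDominant (pullback.fst φ (S.fromSpecStalk (genericPoint S))) := by
  have hqc : QuasiCompact (S.fromSpecStalk (genericPoint S)) :=
    quasiCompact_of_compactSpace _
  haveI : IsDominant (S.fromSpecStalk (genericPoint S)) := by
    rw [isDominant_iff, DenseRange, dense_iff_closure_eq, Set.eq_univ_iff_forall]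
    intro x
    refine closure_mono ?_ (((genericPoint_spec S).specializes (Set.mem_univ x)).mem_closed isClosed_closure
      (subset_closure (Set.mem_singleton (genericPoint S))))
    rintro _ rfl
    exact ⟨IsLocalRing.closedPoint _, Scheme.fromSpecStalk_closedPoint⟩
  haveI : IsSchemeTheoreticallyDominant (S.fromSpecStalk (genericPoint S)) :=
    .of_isDominant _
  refine ⟨inferInstance, ?_⟩
  rw [← pullbackSymmetry_hom_comp_snd]
  infer_instance

theorem geometricallyReduced_appLE (φ : X ⟶ S)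
    (hred : ∀ (K : Type u) [Field K] (k : Spec (CommRingCat.of K) ⟶ S), IsReduced (pullback φ k))
    {V : S.Opens} (hV : IsAffineOpen V) {U : X.Opens} (hU : IsAffineOpen U) (e : U ≤ φ ⁻¹ᵁ V) :
    GeometricallyReduced (Spec.map (φ.appLE V U e)) := by
  have hw : Spec.map (φ.appLE V U e) ≫ hV.fromSpec = hU.fromSpec ≫ φ := hV.SpecMap_appLE_fromSpec φ hU e
  refine ⟨fun K _ k Z fst snd hZ => ?_⟩
  haveI := hred K (k ≫ hV.fromSpec)
  have sq : IsPullback fst snd (hU.fromSpec ≫ φ) (k ≫ hV.fromSpec) := by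
    rw [← hw]
    exact hZ.paste_vert (IsPullback.of_vert_isIso_mono ⟨rfl⟩ : IsPullback k (𝟙 _) hV.fromSpec (k ≫ hV.fromSpec)) |>.flip.flip
  let ℓ : Z ⟶ pullback φ (k ≫ hV.fromSpec) :=
    pullback.lift (fst ≫ hU.fromSpec) snd (by rw [Category.assoc, sq.w])
  have sq2 : IsPullback ℓ fst (pullback.fst φ (k ≫ hV.fromSpec)) hU.fromSpec :=
    IsPullback.of_right (by rw [pullback.lift_snd]; exact sq.flip)
      (pullback.lift_fst _ _ _) (IsPullback.of_hasPullback φ (k ≫ hV.fromSpec)).flip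
  haveI : IsOpenImmersion ℓ := MorphismProperty.of_isPullback sq2.flip inferInstance
  exact isReduced_of_isOpenImmersion ℓ

/-- Sections over an affine open of the generic fibre are fractions. -/
theorem exists_smul_eq_app [IsIntegral S] (φ : X ⟶ S) {V : S.Opens} (hV : IsAffineOpen V)
    (hη : genericPoint S ∈ V) {U : X.Opens} (hU : IsAffineOpen U) (e : U ≤ φ ⁻¹ᵁ V)
    (p : pullback φ (S.fromSpecStalk (genericPoint S)) ⟶ X)
    (hp : p = pullback.fst φ (S.fromSpecStalk (genericPoint S))) :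
    (∀ y : Γ(pullback φ (S.fromSpecStalk (genericPoint S)), p ⁻¹ᵁ U),
      ∃ (s : Γ(S, V)) (a : Γ(X, U)), s ≠ 0 ∧ p.app U (φ.appLE V U e s) * y = p.app U a) ∧
    ∀ s : Γ(S, V), s ≠ 0 → IsUnit (p.app U (φ.appLE V U e s)) := by
  subst hp
  let c := S.fromSpecStalk (genericPoint S)
  let p := pullback.fst φ c
  let q := pullback.snd φ c
  have htop : (⊤ : (Spec (S.presheaf.stalk (genericPoint S))).Opens) ≤ c ⁻¹ᵁ V := by
    intro z _
    have hz : c z ⤳ genericPoint S := by
      have := Set.mem_range_self (f := c) z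
      rw [Scheme.range_fromSpecStalk] at this
      exact this
    exact hz.mem_open V.isOpen hη
  have H := IsPullback.of_hasPullback φ c
  have hiso := isIso_pushoutSection_of_isAffineOpen (H := H) htop e (UY := p ⁻¹ᵁ U) (by simp [p])
    hV (isAffineOpen_top _) hU
  have hpo := (isIso_pushoutSection_iff H htop e (by simp [p])).1 hiso
  letI : Algebra Γ(S, V) Γ(X, U) := (φ.appLE V U e).hom.toAlgebra
  letI : Algebra Γ(S, V) Γ(Spec (S.presheaf.stalk (genericPoint S)), ⊤) := (c.appLE V ⊤ htop).hom.toAlgebra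
  let iso := (CommRingCat.isPushout_tensorProduct Γ(S, V) Γ(X, U)
    Γ(Spec (S.presheaf.stalk (genericPoint S)), ⊤)).isoIsPushout _ _ hpo
  haveI : Nonempty V := ⟨⟨_, hη⟩⟩
  letI : Algebra Γ(S, V) S.functionField := (S.presheaf.germ V (genericPoint S) hη).hom.toAlgebra
  haveI : IsFractionRing Γ(S, V) S.functionField := functionField_isFractionRing_of_isAffineOpen S V hV
  let ι := Scheme.ΓSpecIso (S.presheaf.stalk (genericPoint S))
  have hmap : ∀ x, algebraMap Γ(S, V) Γ(Spec (S.presheaf.stalk (genericPoint S)), ⊤) x =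
      ι.inv (algebraMap Γ(S, V) S.functionField x) := by
    intro x
    show (c.appLE V ⊤ htop) x = _
    rw [Scheme.Hom.appLE, Scheme.fromSpecStalk_app hη, Category.assoc, Category.assoc, ← Functor.map_comp,
      ← op_comp]
    have : ((homOfLE htop) ≫ homOfLE le_top : (⊤ : (Spec (S.presheaf.stalk (genericPoint S))).Opens) ⟶ ⊤) = 𝟙 _ :=
      rfl
    rw [this, op_id, CategoryTheory.Functor.map_id, Category.comp_id]
    rfl
  have hfrac : ∀ k : Γ(Spec (S.presheaf.stalk (genericPoint S)), ⊤), ∃ (s r : Γ(S, V)), s ≠ 0 ∧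
      algebraMap Γ(S, V) _ s * k = algebraMap Γ(S, V) _ r := by
    intro k
    obtain ⟨⟨r, s⟩, hrs⟩ := IsLocalization.surj (nonZeroDivisors Γ(S, V)) (S := S.functionField) (ι.hom k)
    refine ⟨s, r, nonZeroDivisors.coe_ne_zero s, ?_⟩
    have hk : k = ι.inv (ι.hom k) := by rw [← ConcreteCategory.comp_apply, ι.hom_inv_id]; rfl
    rw [hmap, hmap, hk, ← map_mul, mul_comm]
    exact congrArg _ hrs
  have key : ∀ w : Γ(X, U) ⊗[Γ(S, V)] Γ(Spec (S.presheaf.stalk (genericPoint S)), ⊤), ∃ (s : Γ(S, V)) (a : Γ(X, U)),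
      s ≠ 0 ∧ algebraMap Γ(S, V) Γ(X, U) s ⊗ₜ 1 * w = a ⊗ₜ 1 := by
    intro w
    induction w using TensorProduct.induction_on with
    | zero => exact ⟨1, 0, one_ne_zero, by rw [mul_zero, TensorProduct.zero_tmul]⟩
    | tmul a k =>
      obtain ⟨s, r, hs, h⟩ := hfrac k
      refine ⟨s, algebraMap Γ(S, V) Γ(X, U) r * a, hs, ?_⟩
      rw [Algebra.TensorProduct.tmul_mul_tmul, one_mul, ← Algebra.smul_def, ← Algebra.smul_def,
        TensorProduct.smul_tmul, Algebra.smul_def, h, ← mul_one (algebraMap Γ(S, V) _ r), ← Algebra.smul_def,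
        ← TensorProduct.smul_tmul]
    | add x y hx hy =>
      obtain ⟨s, a, hs, ha⟩ := hx
      obtain ⟨t, b, ht, hb⟩ := hy
      refine ⟨s * t, algebraMap Γ(S, V) Γ(X, U) t * a + algebraMap Γ(S, V) Γ(X, U) s * b, mul_ne_zero hs ht, ?_⟩
      have e1 : ∀ (u v : Γ(X, U)), ((u * v) ⊗ₜ[Γ(S, V)] (1 : Γ(Spec (S.presheaf.stalk (genericPoint S)), ⊤))) =
          (u ⊗ₜ 1) * (v ⊗ₜ 1) := fun u v => by rw [Algebra.TensorProduct.tmul_mul_tmul, one_mul]
      rw [map_mul, e1, TensorProduct.add_tmul, e1, e1, ← ha, ← hb]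
      ring
  have hinl : ∀ x : Γ(X, U), iso.hom (x ⊗ₜ[Γ(S, V)] (1 : Γ(Spec (S.presheaf.stalk (genericPoint S)), ⊤))) = p.app U x := fun x => by
    have h1 := congrArg (fun g => g.hom x)
      ((CommRingCat.isPushout_tensorProduct Γ(S, V) Γ(X, U)
        Γ(Spec (S.presheaf.stalk (genericPoint S)), ⊤)).inl_isoIsPushout_hom _ _ hpo)
    refine h1.trans ?_
    rw [Scheme.Hom.app_eq_appLE]
  refine ⟨fun y => ?_, fun s hs => ?_⟩
  · obtain ⟨s, a, hs, ha⟩ := key (iso.inv y)
    refine ⟨s, a, hs, ?_⟩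
    have h2 := congrArg iso.hom ha
    rw [map_mul, hinl, hinl, ← ConcreteCategory.comp_apply, iso.inv_hom_id] at h2
    exact h2
  · rw [← hinl]
    refine IsUnit.map iso.hom.hom ?_
    rw [show φ.appLE V U e s = algebraMap Γ(S, V) Γ(X, U) s from rfl, ← mul_one (algebraMap Γ(S, V) Γ(X, U) s),
      ← Algebra.smul_def, TensorProduct.smul_tmul, Algebra.smul_def, mul_one, hmap]
    refine IsUnit.map (Algebra.TensorProduct.includeRight :
      Γ(Spec (S.presheaf.stalk (genericPoint S)), ⊤) →ₐ[Γ(S, V)] _) (IsUnit.map ι.inv.hom ?_)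
    exact Ne.isUnit ((map_ne_zero_iff _ (IsFractionRing.injective Γ(S, V) S.functionField)).2 hs)

/-- The main result. -/
theorem isIso_of_etaModification [IsIntegral S] [QuasiSeparatedSpace S]
    (hS : Pi1.IsNormalScheme S) (φ : X ⟶ S) [Flat φ] [LocallyOfFinitePresentation φ]
    (hred : ∀ (K : Type u) [Field K] (k : Spec (CommRingCat.of K) ⟶ S), IsReduced (pullback φ k))
    (f : X' ⟶ X) [IsFinite f] (U₀ : X.Opens) (hU' : IsSchemeTheoreticallyDominant (f ⁻¹ᵁ U₀).ι)
    (hfU : IsIso (f ∣_ U₀))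
    (hη : IsIso (pullback.snd f (pullback.fst φ (S.fromSpecStalk (genericPoint S))))) :
    IsIso f := by
  set j := pullback.fst φ (S.fromSpecStalk (genericPoint S))
  obtain ⟨hjqc, hjd⟩ := isTheDominant_fst φ
  haveI := hjqc; haveI := hjd; haveI := hη; haveI := hfU
  let g := inv (pullback.snd f j) ≫ pullback.fst f j
  have hgf : g ≫ f = j := by
    rw [Category.assoc, pullback.condition, IsIso.inv_hom_id_assoc]
  haveI : QuasiCompact g := inferInstance
  haveI hgU : IsSchemeTheoreticallyDominant (g ∣_ (f ⁻¹ᵁ U₀)) := by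
    have e : g ∣_ (f ⁻¹ᵁ U₀) = ((g ∣_ (f ⁻¹ᵁ U₀)) ≫ (f ∣_ U₀)) ≫ inv (f ∣_ U₀) := by
      rw [Category.assoc, IsIso.hom_inv_id, Category.comp_id]
    haveI hju : IsSchemeTheoreticallyDominant (j ∣_ U₀) := by
      rw [← (isPullback_morphismRestrict j U₀).flip.isoPullback_hom_snd]
      infer_instance
    haveI : IsSchemeTheoreticallyDominant (((g ∣_ (f ⁻¹ᵁ U₀)) ≫ (f ∣_ U₀))) := by
      rw [← morphismRestrict_comp]
      have key : ∀ k, k = j → IsSchemeTheoreticallyDominant (k ∣_ U₀) := fun k hk => hk ▸ hju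
      exact key _ hgf
    rw [e]
    infer_instance
  haveI hgd : IsSchemeTheoreticallyDominant g := by
    refine ⟨le_bot_iff.1 ?_⟩
    rw [← (f ⁻¹ᵁ U₀).ι.ker_eq_bot]
    refine Scheme.IdealSheafData.le_ofIdeals_iff.2 fun W x hx => ?_
    rw [Scheme.Hom.ker_apply, RingHom.mem_ker] at hx
    rw [RingHom.mem_ker]
    refine (g ∣_ (f ⁻¹ᵁ U₀)).app_injective ((f ⁻¹ᵁ U₀).ι ⁻¹ᵁ W.1) ?_
    rw [map_zero, ← ConcreteCategory.comp_apply, ← Scheme.Hom.comp_app]
    have he : g ∣_ (f ⁻¹ᵁ U₀) ≫ (f ⁻¹ᵁ U₀).ι = (g ⁻¹ᵁ (f ⁻¹ᵁ U₀)).ι ≫ g := morphismRestrict_ι _ _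
    rw [Scheme.Hom.congr_app he, CommRingCat.comp_apply, Scheme.Hom.comp_app, CommRingCat.comp_apply, hx,
      map_zero, map_zero]
  let ι := {U : X.affineOpens // ∃ V : S.affineOpens, (U : X.Opens) ≤ φ ⁻¹ᵁ V}
  refine (HasAffineProperty.iff_of_iSup_eq_top (P := MorphismProperty.isomorphisms Scheme) (fun i : ι => i.1) ?_).2
    fun i => ?_
  · refine top_le_iff.1 fun x _ => ?_
    obtain ⟨V, hV, hxV, -⟩ := exists_isAffineOpen_mem_and_subset (U := (⊤ : S.Opens)) (x := φ x) trivial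
    obtain ⟨U, hU, hxU, hUV⟩ := exists_isAffineOpen_mem_and_subset (U := φ ⁻¹ᵁ V) (x := x) hxV
    exact TopologicalSpace.Opens.mem_iSup.2 ⟨⟨⟨U, hU⟩, ⟨V, hV⟩, hUV⟩, hxU⟩
  · obtain ⟨⟨U, hU⟩, ⟨V, hV⟩, e⟩ := i
    refine ⟨hU.preimage f, ?_⟩
    suffices IsIso (f.app U) by
      rw [Scheme.Hom.appTop, morphismRestrict_app]
      have : IsIso (f.app (U.ι ''ᵁ ⊤)) := by rw [Scheme.Opens.ι_image_top]; exact this
      infer_instance
    rw [ConcreteCategory.isIso_iff_bijective]
    have hinjg := g.app_injective (f ⁻¹ᵁ U)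
    haveI : IsSchemeTheoreticallyDominant (g ≫ f) := hgf ▸ hjd
    have hcomp : ∀ z, (g ≫ f).app U z = g.app (f ⁻¹ᵁ U) (f.app U z) := fun z => by
      rw [Scheme.Hom.comp_app]; rfl
    have hinj : Function.Injective (f.app U) := fun a b hab =>
      (g ≫ f).app_injective U (by rw [hcomp, hcomp, hab])
    refine ⟨hinj, fun b => ?_⟩
    rcases (U : Set X).eq_empty_or_nonempty with hUe | ⟨x, hx⟩
    · obtain rfl : U = ⊥ := TopologicalSpace.Opens.ext hUe
      haveI : Subsingleton Γ(X', f ⁻¹ᵁ ⊥) := by rw [Scheme.Hom.preimage_bot]; infer_instance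
      exact ⟨0, Subsingleton.elim _ _⟩
    have hηV : genericPoint S ∈ V := ((genericPoint_spec S).mem_open_set_iff V.isOpen).2 ⟨φ x, trivial, e hx⟩
    haveI : Nonempty V := ⟨⟨_, hηV⟩⟩
    haveI : IsIntegral V.toScheme := isIntegral_of_isOpenImmersion V.ι
    haveI : IsIntegrallyClosed Γ(S, V) := NeronHDLib.isIntegrallyClosed_sections hS V
    letI : Algebra Γ(S, V) Γ(X, U) := (φ.appLE V U e).hom.toAlgebra
    haveI : Algebra.FinitePresentation Γ(S, V) Γ(X, U) := φ.finitePresentation_appLE hV hU e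
    haveI : Module.Flat Γ(S, V) Γ(X, U) := HasRingHomProperty.appLE @Flat φ inferInstance ⟨V, hV⟩ ⟨U, hU⟩ e
    haveI : GeometricallyReduced (Spec.map (CommRingCat.ofHom (algebraMap Γ(S, V) Γ(X, U)))) :=
      geometricallyReduced_appLE φ hred hV hU e
    -- `b` becomes a fraction over the generic fibre
    obtain ⟨hfr, hunit⟩ := exists_smul_eq_app φ hV hηV hU e (g ≫ f) hgf
    obtain ⟨s, a, hs, hsa⟩ := hfr (g.app (f ⁻¹ᵁ U) b)
    rw [hcomp, hcomp] at hsa
    have hsb : f.app U (algebraMap Γ(S, V) Γ(X, U) s) * b = f.app U a :=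
      hinjg ((map_mul (g.app (f ⁻¹ᵁ U)).hom _ _).trans hsa)
    obtain ⟨Q, hQm, hQ⟩ := (f.finite_app U hU).to_isIntegral b
    let n := Q.natDegree
    by_cases hn : n = 0
    · have h1 : Q = 1 := hQm.natDegree_eq_zero.1 hn
      rw [h1, Polynomial.eval₂_one] at hQ
      refine ⟨0, ?_⟩
      rw [map_zero, ← mul_one b, hQ, mul_zero]
    have hrel : Rel s a n Q.coeff := by
      refine ⟨Nat.pos_of_ne_zero hn, hinj ?_⟩
      rw [map_zero, map_add, map_sum, map_pow]
      simp only [map_mul, map_pow, ← hsb]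
      rw [mul_pow]
      rw [Polynomial.eval₂_eq_sum_range, Finset.sum_range_succ, hQm.coeff_natDegree, map_one, one_mul] at hQ
      rw [show (Finset.range n).sum (fun i => f.app U (Q.coeff i) * f.app U (algebraMap Γ(S, V) Γ(X, U) s) ^ (n - i) *
          (f.app U (algebraMap Γ(S, V) Γ(X, U) s) * b) ^ i) =
        f.app U (algebraMap Γ(S, V) Γ(X, U) s) ^ n * (Finset.range n).sum (fun i => f.app U (Q.coeff i) * b ^ i) from ?_]
      · rw [← mul_add, add_comm, hQ, mul_zero]
      rw [Finset.mul_sum]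
      refine Finset.sum_congr rfl fun i hi => ?_
      have hp : f.app U (algebraMap Γ(S, V) Γ(X, U) s) ^ n =
          f.app U (algebraMap Γ(S, V) Γ(X, U) s) ^ (n - i) * f.app U (algebraMap Γ(S, V) Γ(X, U) s) ^ i := by
        rw [← pow_add, Nat.sub_add_cancel (Finset.mem_range.1 hi).le]
      rw [hp, mul_pow]
      ring
    obtain ⟨a', rfl⟩ := dvd_of_rel_of_normal hs hrel
    refine ⟨a', ?_⟩
    rw [map_mul] at hsb
    -- cancel `s`, regular on the generic fibre
    apply hinjg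
    have hu : IsUnit (g.app (f ⁻¹ᵁ U) (f.app U (algebraMap Γ(S, V) Γ(X, U) s))) := by
      rw [← hcomp]
      exact hunit s hs
    refine hu.mul_left_cancel ?_
    rw [← map_mul, ← map_mul (f.app U).hom, ← map_mul, hsb]
    exact congrArg _ (map_mul (f.app U).hom _ _)

end Groth.Agent.EtaMod
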